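import Cfsg.Agent.Lib.ToddCox.Glue
set_option autoImplicit false
set_option maxRecDepth 100000
namespace Cfsg.Agent.Lib.ToddCox.L37C5
def E_0 : ℕ := 0x60800001800001820000060000060400001800001810000060000050400001400001410000050000040400001000001010000040000030400000c00000c10000030000020400000800000810000020000010400000400000410000010000000400000000000010000000000000000000000000000000000000050000001800001800000050000040800001400001420000040000030000001000001000000030000020800000c00000c2000002000001000000080000080000001000000080000040000042000000
end Cfsg.Agent.Lib.ToddCox.L37C5
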